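import Groth.Agent.LocalDimBC.Ring
import Groth.Prelude.Def_EGA4b
import Mathlib

/-! # Dimensions of fibre rings under extension of the ground field -/

set_option autoImplicit false

universe u

open TensorProduct IsLocalRing

namespace Groth.Agent.FieldExtDim

theorem cancel {F : WithBot ℕ∞} {b b' : ℕ} (h : F + (b : WithBot ℕ∞) = (b' : WithBot ℕ∞)) :
    ∃ f : ℕ, F = (f : WithBot ℕ∞) ∧ f + b = b' := by
  cases F with
  | bot => simp at h
  | coe a =>
    cases a with
    | top =>
      rw [← WithBot.coe_natCast, ← WithBot.coe_natCast, ← WithBot.coe_add, WithBot.coe_inj, top_add] at h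
      exact absurd h (ENat.top_ne_natCast b')
    | coe f => exact ⟨f, rfl, by exact_mod_cast h⟩

theorem trdeg_residueField_eq (K : Type u) [Field K] {G : Type u} [CommRing G] [Algebra K G] (Q : Ideal G) [Q.IsPrime] :
    Algebra.trdeg K Q.ResidueField = Algebra.trdeg K (G ⧸ Q) := by
  haveI : Algebra.IsAlgebraic (G ⧸ Q) Q.ResidueField :=
    IsLocalization.isAlgebraic _ (nonZeroDivisors (G ⧸ Q))
  have h := trdeg_add_eq K (G ⧸ Q) (A := Q.ResidueField)
  rw [trdeg_eq_zero (R := G ⧸ Q), add_zero] at h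
  exact h.symm

theorem trdeg_residueField_congr (K : Type u) [Field K] {G H : Type u} [CommRing G] [Algebra K G]
    [CommRing H] [Algebra K H] (e : G ≃ₐ[K] H) (Q : Ideal H) [Q.IsPrime] (P : Ideal G) [P.IsPrime]
    (hP : Q.comap e = P) :
    Algebra.trdeg K P.ResidueField = Algebra.trdeg K Q.ResidueField := by
  subst hP
  rw [trdeg_residueField_eq, trdeg_residueField_eq]
  exact AlgEquiv.trdeg_eq (Ideal.quotientEquivAlg _ _ e (Ideal.map_comap_of_surjective e e.surjective Q).symm)

theorem exists_dim_add_trdeg {K G : Type u} [Field K] [CommRing G] [Algebra K G] [Algebra.FiniteType K G]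
    (Q : Ideal G) [Q.IsPrime] :
    ∃ b δ : ℕ, Q.height = (b : ℕ∞) ∧ Algebra.trdeg K Q.ResidueField = (δ : Cardinal.{u}) ∧
      FlatMor.localDim (PrimeSpectrum G) ⟨Q, ‹_›⟩ = ((b + δ : ℕ) : WithBot ℕ∞) := by
  obtain ⟨b, δ, hb, hD, hδ⟩ := CMChart.localDim_primeSpectrum (k := K) (⟨Q, ‹_›⟩ : PrimeSpectrum G)
  refine ⟨b, δ, ?_, hδ, hD⟩
  rw [IsLocalization.AtPrime.ringKrullDim_eq_height Q (Localization.AtPrime Q)] at hb
  exact WithBot.coe_inj.1 hb

section flat

variable {S B : Type u} [CommRing S] [CommRing B] [Algebra S B] [Module.Flat S B]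

theorem dim_fibLocRing_add [IsNoetherianRing S] [IsNoetherianRing B] (q : Ideal S) [q.IsPrime] (Q : Ideal B) [Q.IsPrime] [Q.LiesOver q] :
    ringKrullDim (EGA4.FibLocRing S B Q) + ringKrullDim (Localization.AtPrime q) =
      ringKrullDim (Localization.AtPrime Q) := by
  have hq : Q.comap (algebraMap S B) = q := (Ideal.LiesOver.over (p := q) (P := Q)).symm
  haveI : Module.Flat S (Localization.AtPrime Q) :=
    haveI : Module.Flat B (Localization.AtPrime Q) := IsLocalization.flat _ Q.primeCompl
    Module.Flat.trans S B _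
  have hc : (maximalIdeal (Localization.AtPrime Q)).comap (algebraMap B (Localization.AtPrime Q)) = Q :=
    Localization.AtPrime.under_maximalIdeal (I := Q)
  haveI : (maximalIdeal (Localization.AtPrime Q)).LiesOver q := ⟨by
    rw [Ideal.under_def, IsScalarTower.algebraMap_eq S B (Localization.AtPrime Q), ← Ideal.comap_comap,
      hc, hq]⟩
  have h := Ideal.height_eq_height_add_of_liesOver_of_hasGoingDown q (maximalIdeal (Localization.AtPrime Q))
  rw [← hq] at h
  set J := (Q.comap (algebraMap S B)).map (algebraMap S (Localization.AtPrime Q))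
  have hJ : J ≤ maximalIdeal (Localization.AtPrime Q) := by
    rw [Ideal.map_le_iff_le_comap, IsScalarTower.algebraMap_eq S B (Localization.AtPrime Q), ← Ideal.comap_comap,
      hc]
  haveI : Nontrivial (Localization.AtPrime Q ⧸ J) :=
    Ideal.Quotient.nontrivial_iff.2 (ne_top_of_le_ne_top (maximalIdeal.isMaximal _).ne_top hJ)
  haveI : IsLocalRing (Localization.AtPrime Q ⧸ J) := .of_surjective' (Ideal.Quotient.mk J) Ideal.Quotient.mk_surjective
  haveI : IsLocalHom (Ideal.Quotient.mk J) := IsLocalHom.of_surjective _ Ideal.Quotient.mk_surjective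
  rw [IsLocalRing.map_maximalIdeal_of_surjective (Ideal.Quotient.mk J) Ideal.Quotient.mk_surjective, hq] at h
  show ringKrullDim (Localization.AtPrime Q ⧸ J) + _ = _
  rw [IsLocalization.AtPrime.ringKrullDim_eq_height q (Localization.AtPrime q),
    ← IsLocalRing.maximalIdeal_height_eq_ringKrullDim (R := Localization.AtPrime Q ⧸ J),
    ← IsLocalRing.maximalIdeal_height_eq_ringKrullDim (R := Localization.AtPrime Q), h, WithBot.coe_add, add_comm]

end flat

theorem minimal_dim_zero {S B : Type u} [CommRing S] [CommRing B] [Algebra S B] (q : Ideal S) (Q : Ideal B) [Q.IsPrime]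
    [Q.LiesOver q] (hQ : Q ∈ (q.map (algebraMap S B)).minimalPrimes) :
    ringKrullDim (EGA4.FibLocRing S B Q) = 0 := by
  have hq : Q.comap (algebraMap S B) = q := (Ideal.LiesOver.over (p := q) (P := Q)).symm
  set J := (Q.comap (algebraMap S B)).map (algebraMap S (Localization.AtPrime Q))
  have hJ : J ≤ maximalIdeal (Localization.AtPrime Q) := by
    rw [Ideal.map_le_iff_le_comap, IsScalarTower.algebraMap_eq S B (Localization.AtPrime Q), ← Ideal.comap_comap]
    exact Ideal.comap_mono (Localization.AtPrime.comap_maximalIdeal (I := Q)).ge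
  haveI : Nontrivial (Localization.AtPrime Q ⧸ J) :=
    Ideal.Quotient.nontrivial_iff.2 (ne_top_of_le_ne_top (maximalIdeal.isMaximal _).ne_top hJ)
  haveI : Ring.KrullDimLE 0 (Localization.AtPrime Q ⧸ J) := Ring.KrullDimLE.mk₀ fun P hP => by
    haveI := hP
    have h1 : J ≤ P.comap (Ideal.Quotient.mk J) := fun x hx => by
      rw [Ideal.mem_comap, Ideal.Quotient.eq_zero_iff_mem.2 hx]; exact P.zero_mem
    have hmax : P.comap (Ideal.Quotient.mk J) = maximalIdeal _ := by
      refine le_antisymm (le_maximalIdeal (Ideal.IsPrime.comap _).ne_top) ?_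
      rw [← Localization.AtPrime.map_eq_maximalIdeal, Ideal.map_le_iff_le_comap]
      refine hQ.2 ⟨Ideal.IsPrime.comap _, ?_⟩ ?_
      · rw [Ideal.map_le_iff_le_comap, Ideal.comap_comap, ← IsScalarTower.algebraMap_eq,
          ← Ideal.map_le_iff_le_comap, ← hq]
        exact h1
      · exact (Ideal.comap_mono (le_maximalIdeal (Ideal.IsPrime.comap _).ne_top)).trans
          (Localization.AtPrime.comap_maximalIdeal (I := Q)).le
    rw [← Ideal.map_comap_of_surjective (Ideal.Quotient.mk J) Ideal.Quotient.mk_surjective P, hmax]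
    refine (Ideal.map_eq_top_or_isMaximal_of_surjective (Ideal.Quotient.mk J) Ideal.Quotient.mk_surjective
      (maximalIdeal.isMaximal _)).resolve_left fun e => hP.ne_top ?_
    rwa [← hmax, Ideal.map_comap_of_surjective (Ideal.Quotient.mk J) Ideal.Quotient.mk_surjective P] at e
  exact ringKrullDimZero_iff_ringKrullDim_eq_zero.1 inferInstance

/-- the dimension of the fibre ring and the transcendence degrees -/
theorem main {k S K : Type u} [Field k] [CommRing S] [Algebra k S] [Algebra.FiniteType k S] [Field K] [Algebra k K]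
    (q : Ideal S) [q.IsPrime] (r : ℕ) (hr : Algebra.trdeg k q.ResidueField = r)
    (qK : Ideal (S ⊗[k] K)) [qK.IsPrime] [qK.LiesOver q] (rK : ℕ)
    (hrK : letI : Algebra K (S ⊗[k] K) := Algebra.TensorProduct.rightAlgebra
      Algebra.trdeg K qK.ResidueField = rK) :
    ringKrullDim (EGA4.FibLocRing S (S ⊗[k] K) qK) + ringKrullDim (Localization.AtPrime q) =
        ringKrullDim (Localization.AtPrime qK) ∧
      ringKrullDim (EGA4.FibLocRing S (S ⊗[k] K) qK) + (rK : WithBot ℕ∞) = (r : WithBot ℕ∞) := by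
  letI : Algebra K (S ⊗[k] K) := Algebra.TensorProduct.rightAlgebra
  haveI : IsNoetherianRing S := Algebra.FiniteType.isNoetherianRing k S
  let e : S ⊗[k] K ≃ₐ[K] K ⊗[k] S := AlgEquiv.ofRingEquiv (f := (Algebra.TensorProduct.comm k S K).toRingEquiv)
    (fun c => rfl)
  haveI : IsNoetherianRing (K ⊗[k] S) := Algebra.FiniteType.isNoetherianRing K _
  haveI : IsNoetherianRing (S ⊗[k] K) := isNoetherianRing_of_ringEquiv _ e.symm.toRingEquiv
  have h1 := dim_fibLocRing_add q qK
  refine ⟨h1, ?_⟩
  let Q' := qK.comap e.symm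
  have hQ' : Q'.comap e = qK := by
    exact Ideal.ext fun x => by
      show e.symm (e x) ∈ qK ↔ _
      rw [e.symm_apply_apply]
  obtain ⟨b, δ, hb, hδ, hD⟩ := exists_dim_add_trdeg (K := k) q
  obtain ⟨b', δ', hb', hδ', hD'⟩ := exists_dim_add_trdeg (K := K) Q'
  obtain rfl : δ = r := by exact_mod_cast hδ.symm.trans hr
  have hht : qK.height = (b' : ℕ∞) := by
    rw [← hb']; exact ((RingEquiv.height_comap e.symm.toRingEquiv qK)).symm
  obtain rfl : δ' = rK := by
    have h3 := trdeg_residueField_congr K e Q' qK hQ'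
    exact_mod_cast (hδ'.symm.trans h3.symm).trans hrK
  have hover : Q'.comap (Algebra.TensorProduct.includeRight.toRingHom : S →+* K ⊗[k] S) = q := by
    rw [Ideal.LiesOver.over (p := q) (P := qK)]
    ext s
    rfl
  have hld := LocalDimBC.localDim_tensor (K := k) (L := K) ⟨Q', inferInstance⟩ ⟨q, ‹_›⟩ hover
  rw [hD, hD'] at hld
  rw [IsLocalization.AtPrime.ringKrullDim_eq_height q (Localization.AtPrime q), IsLocalization.AtPrime.ringKrullDim_eq_height qK (Localization.AtPrime qK), hb, hht] at h1
  obtain ⟨f, hf, hfb⟩ := cancel h1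
  have h3 : b' + δ' = b + δ := by exact_mod_cast hld
  rw [hf]
  exact_mod_cast (show f + δ' = δ by omega)

end Groth.Agent.FieldExtDim
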