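import Groth.Agent.FieldExtDim.Basic
import Groth.Agent.LocalDimBC.Scheme
import Groth.Agent.CMChart.OverField
import Mathlib

/-! # Local rings of a base change of the ground field -/

set_option autoImplicit false
set_option backward.isDefEq.respectTransparency false

universe u

open CategoryTheory CategoryTheory.Limits AlgebraicGeometry IsLocalRing

attribute [local instance] Curv2.stalkAlgebra Curv2.resAlgebra

namespace Groth.Agent.FieldExtDim

/-- the dimension formula along a flat local homomorphism -/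
theorem ringKrullDim_flat (A B : Type u) [CommRing A] [CommRing B] [IsNoetherianRing A] [IsNoetherianRing B]
    [IsLocalRing A] [IsLocalRing B] [Algebra A B] [IsLocalHom (algebraMap A B)] [Module.Flat A B] :
    ringKrullDim B = ringKrullDim A + ringKrullDim (B ⧸ (maximalIdeal A).map (algebraMap A B)) := by
  haveI : (maximalIdeal B).LiesOver (maximalIdeal A) := ⟨(maximalIdeal_comap (algebraMap A B)).symm⟩
  let I := (maximalIdeal A).map (algebraMap A B)
  have hle : I ≤ maximalIdeal B := Ideal.map_le_iff_le_comap.2 (maximalIdeal_comap (algebraMap A B)).ge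
  haveI : Nontrivial (B ⧸ I) := Ideal.Quotient.nontrivial_iff.2 (ne_top_of_le_ne_top (maximalIdeal.isMaximal B).ne_top hle)
  haveI : IsLocalRing (B ⧸ I) := .of_surjective' (Ideal.Quotient.mk I) Ideal.Quotient.mk_surjective
  haveI : IsLocalHom (Ideal.Quotient.mk I) := IsLocalHom.of_surjective _ Ideal.Quotient.mk_surjective
  rw [← IsLocalRing.maximalIdeal_height_eq_ringKrullDim, ← IsLocalRing.maximalIdeal_height_eq_ringKrullDim,
    Ideal.height_eq_height_add_of_liesOver_of_hasGoingDown (maximalIdeal A) (maximalIdeal B),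
    IsLocalRing.map_maximalIdeal_of_surjective (Ideal.Quotient.mk I) Ideal.Quotient.mk_surjective, WithBot.coe_add]
  exact congrArg (_ + ·) IsLocalRing.maximalIdeal_height_eq_ringKrullDim

theorem scheme_main (k : Type u) [Field k] (X : Scheme.{u}) [X.Over (Spec (CommRingCat.of k))]
    [LocallyOfFiniteType (X ↘ (Spec (CommRingCat.of k)))]
    (K : Type u) [Field K] [Algebra k K] (y : ↥(Curv2.bc k X K)) (a a' : ℕ)
    (ha : Algebra.trdeg k (X.residueField (Curv2.bcFst k X K y)) = a)
    (ha' : letI : (Curv2.bc k X K).Over (Spec (CommRingCat.of K)) := ⟨Curv2.bcSnd k X K⟩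
      Algebra.trdeg K ((Curv2.bc k X K).residueField y) = a') :
    ringKrullDim ((Curv2.bc k X K).presheaf.stalk y) + (a' : WithBot ℕ∞) =
        ringKrullDim (X.presheaf.stalk (Curv2.bcFst k X K y)) + (a : WithBot ℕ∞) ∧
      ringKrullDim (↥((Curv2.bc k X K).presheaf.stalk y) ⧸ Ideal.map ((Curv2.bcFst k X K).stalkMap y).hom (IsLocalRing.maximalIdeal ↥(X.presheaf.stalk (Curv2.bcFst k X K y)))) + (a' : WithBot ℕ∞) =
        (a : WithBot ℕ∞) := by
  letI : (Curv2.bc k X K).Over (Spec (CommRingCat.of K)) := ⟨Curv2.bcSnd k X K⟩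
  haveI hft : LocallyOfFiniteType (Curv2.bc k X K ↘ Spec (CommRingCat.of K)) :=
    MorphismProperty.pullback_snd (P := @LocallyOfFiniteType) _ _ inferInstance
  haveI : IsLocallyNoetherian X := LocallyOfFiniteType.isLocallyNoetherian (X ↘ (Spec (CommRingCat.of k)))
  haveI : IsLocallyNoetherian (Curv2.bc k X K) :=
    LocallyOfFiniteType.isLocallyNoetherian (Curv2.bc k X K ↘ Spec (CommRingCat.of K))
  obtain ⟨b, δ, hb, hD, hδ⟩ := CMChart.localDim_over_field (k := k) X (Curv2.bcFst k X K y)
  obtain ⟨b', δ', hb', hD', hδ'⟩ := CMChart.localDim_over_field (k := K) (Curv2.bc k X K) y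
  obtain rfl : δ = a := by exact_mod_cast hδ.symm.trans ha
  obtain rfl : δ' = a' := by exact_mod_cast hδ'.symm.trans ha'
  have h := LocalDimBC.fibreDimAt_of_isPullback (X ↘ (Spec (CommRingCat.of k))) (Spec.map (CommRingCat.ofHom (algebraMap k K)))
    (Curv2.bcFst k X K) (Curv2.bc k X K ↘ Spec (CommRingCat.of K)) (IsPullback.of_hasPullback _ _) y
  rw [CMChart.fibreDimAt_eq_localDim, CMChart.fibreDimAt_eq_localDim, hD, hD'] at h
  have h3 : b' + δ' = b + δ := by exact_mod_cast h
  haveI : Flat (Spec.map (CommRingCat.ofHom (algebraMap k K))) := by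
    rw [HasRingHomProperty.Spec_iff (P := @Flat)]
    exact RingHom.flat_algebraMap_iff.mpr inferInstance
  haveI : Flat (Curv2.bcFst k X K) := MorphismProperty.pullback_fst (P := @Flat) _ _ inferInstance
  let φ := ((Curv2.bcFst k X K).stalkMap y).hom
  letI := φ.toAlgebra
  haveI : Module.Flat (X.presheaf.stalk (Curv2.bcFst k X K y)) ((Curv2.bc k X K).presheaf.stalk y) :=
    Flat.stalkMap (Curv2.bcFst k X K) y
  haveI : IsLocalHom (algebraMap (X.presheaf.stalk (Curv2.bcFst k X K y)) ((Curv2.bc k X K).presheaf.stalk y)) :=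
    inferInstanceAs (IsLocalHom ((Curv2.bcFst k X K).stalkMap y).hom)
  have h1 := ringKrullDim_flat (X.presheaf.stalk (Curv2.bcFst k X K y)) ((Curv2.bc k X K).presheaf.stalk y)
  rw [hb, hb', add_comm] at h1
  obtain ⟨f, hf, hfb⟩ := cancel h1.symm
  refine ⟨by rw [hb, hb']; exact_mod_cast h3, ?_⟩
  rw [show ringKrullDim (↥((Curv2.bc k X K).presheaf.stalk y) ⧸ Ideal.map φ (maximalIdeal _)) = (f : WithBot ℕ∞) from hf]
  exact_mod_cast (show f + δ' = δ by omega)

end Groth.Agent.FieldExtDim
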